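import Groth.Agent.WPrep.Basic

/-!
Weierstrass preparation and division in the henselization of `R[t]` along `(t)`, and the ideals of `R[1/t]`
away from the special fibre.
-/

set_option autoImplicit false
set_option linter.style.haveILetI false

universe u

open Polynomial

namespace Groth.Agent.WPrep

variable {R B : Type u} [CommRing R] [CommRing B] [Algebra R B] [Algebra R[X] B] [IsScalarTower R R[X] B]

local notation "t" => algebraMap R[X] B Polynomial.X
local notation "𝔪" => IsLocalRing.maximalIdeal R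

/-- A monic polynomial with non-leading coefficients in the maximal ideal. -/
def IsDistinguished [IsLocalRing R] (P : R[X]) : Prop :=
  P.Monic ∧ ∀ i : ℕ, i < P.natDegree → P.coeff i ∈ 𝔪

theorem nhd_const {A' : Type u} [CommRing A'] [Algebra R[X] A'] [Algebra R A'] [IsScalarTower R R[X] A']
    (hbij : Function.Surjective (Ideal.quotientMap ((Ideal.span {(X : R[X])}).map (algebraMap R[X] A'))
      (algebraMap R[X] A') Ideal.le_comap_map)) (a : A') :
    ∃ r : R, a - algebraMap R A' r ∈ Ideal.span {algebraMap R[X] A' X} := by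
  obtain ⟨q, hq⟩ := hbij (Ideal.Quotient.mk _ a)
  obtain ⟨q, rfl⟩ := Ideal.Quotient.mk_surjective q
  rw [Ideal.quotientMap_mk, Ideal.Quotient.eq, Ideal.map_span, Set.image_singleton] at hq
  refine ⟨q.coeff 0, ?_⟩
  have h2 : algebraMap R[X] A' q - algebraMap R A' (q.coeff 0) ∈ Ideal.span {algebraMap R[X] A' X} := by
    rw [← algebraMap_C (S := A') (q.coeff 0), ← map_sub]
    obtain ⟨c, hc⟩ := (X_dvd_iff (f := q - C (q.coeff 0))).2 (by simp)
    rw [hc, map_mul]
    exact Ideal.mul_mem_right _ _ (Ideal.mem_span_singleton_self _)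
  have := Ideal.sub_mem _ h2 hq
  rwa [show algebraMap R[X] A' q - algebraMap R A' (q.coeff 0) - (algebraMap R[X] A' q - a) =
    a - algebraMap R A' (q.coeff 0) by ring] at this

variable [HenselianLocalRing R] (hB : Hens2.IsPairHenselization R[X] (Ideal.span {(X : R[X])}) B)
include hB

theorem nontrivial_mod : (1 : B) ∉ Ideal.map (algebraMap R B) 𝔪 ⊔ Ideal.span {t} := by
  simpa using pow_notMem hB 0

/-- Existence in Weierstrass preparation. -/
theorem exists_factor {f : B} (hf : f ∉ Ideal.map (algebraMap R B) 𝔪) :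
    ∃ (P : R[X]) (u : Bˣ), IsDistinguished P ∧ f = algebraMap R[X] B P * (u : B) := by
  classical
  obtain ⟨N, v, hv, hfv⟩ := exists_order hB hf
  have hfN : f ∈ Ideal.map (algebraMap R B) 𝔪 ⊔ Ideal.span {t ^ N} := by
    rw [← sub_add_cancel f (t ^ N * v)]
    exact Ideal.add_mem _ (Ideal.mem_sup_left hfv)
      (Ideal.mem_sup_right (Ideal.mul_mem_right _ _ (Ideal.mem_span_singleton_self _)))
  have hfN' : f ∉ Ideal.map (algebraMap R B) 𝔪 ⊔ Ideal.span {t ^ (N + 1)} := fun h => by
    have h1 := Ideal.sub_mem _ h (Ideal.mem_sup_left hfv)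
    rw [sub_sub_cancel, Ideal.mul_unit_mem_iff_mem _ hv] at h1
    exact pow_notMem hB N h1
  obtain ⟨A', _, _, _, hbij, φ, s, hs⟩ := Hensel.exists_nhd_mem hB f
  letI : Algebra R A' := Algebra.compHom A' (C : R →+* R[X])
  haveI : IsScalarTower R R[X] A' := IsScalarTower.of_algebraMap_eq fun _ => rfl
  haveI : Algebra.FiniteType R A' := Algebra.FiniteType.trans (inferInstance : Algebra.FiniteType R R[X]) inferInstance
  let τ' := algebraMap R[X] A' X
  have hφR : ∀ r, φ (algebraMap R A' r) = algebraMap R B r := fun r => by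
    show φ (algebraMap R[X] A' (C r)) = _
    rw [AlgHom.commutes, algebraMap_C]
  have hφτ : φ τ' = t := φ.commutes X
  obtain ⟨q, hq⟩ := exists_poly (nhd_const hbij.2) (N + 1) s
  have hqf : f - algebraMap R[X] B q ∈ Ideal.span {t ^ (N + 1)} := by
    have h1 := Ideal.mem_map_of_mem φ hq
    rwa [Ideal.map_span, Set.image_singleton, map_sub, hs, map_pow, AlgHom.commutes, AlgHom.commutes] at h1
  have hle : Ideal.span {t ^ (N + 1)} ≤ Ideal.span {t ^ N} :=
    Ideal.span_singleton_le_span_singleton.2 (pow_dvd_pow _ (Nat.le_succ N))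
  have hlow : ∀ i < N, q.coeff i ∈ 𝔪 := by
    refine coeff_mem hB ?_
    have := Ideal.sub_mem _ hfN (Ideal.mem_sup_right (hle hqf))
    rwa [sub_sub_cancel] at this
  have htop : IsUnit (q.coeff N) := by
    by_contra hN
    refine hfN' ?_
    have hall : ∀ i < N + 1, q.coeff i ∈ 𝔪 := fun i hi => by
      rcases Nat.lt_succ_iff_lt_or_eq.1 hi with hi | rfl
      · exact hlow i hi
      · exact hN
    rw [← sub_add_cancel f (algebraMap R[X] B q)]
    exact Ideal.add_mem _ (Ideal.mem_sup_right hqf) (poly_mem hall)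
  have hsA : ∃ w : A', s - τ' ^ N * (algebraMap R A' (q.coeff N) + τ' * w) ∈ Ideal.map (algebraMap R A') 𝔪 := by
    have hq' : ∀ i < N + 1, (q - C (q.coeff N) * X ^ N).coeff i ∈ 𝔪 := fun i hi => by
      rw [coeff_sub, coeff_C_mul_X_pow]
      rcases Nat.lt_succ_iff_lt_or_eq.1 hi with hi | rfl
      · rw [if_neg hi.ne, sub_zero]; exact hlow i hi
      · rw [if_pos rfl, sub_self]; exact zero_mem _
    obtain ⟨y, hy, z, hz, hyz⟩ := Submodule.mem_sup.1 (poly_mem (S := A') hq')
    obtain ⟨c, rfl⟩ := Ideal.mem_span_singleton.1 hz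
    obtain ⟨d, hd⟩ := Ideal.mem_span_singleton.1 hq
    refine ⟨c + d, ?_⟩
    rw [map_sub, map_mul, map_pow, algebraMap_C] at hyz
    convert hy using 1
    linear_combination hd - hyz
  obtain ⟨w, hw⟩ := hsA
  let v' := algebraMap R A' (q.coeff N) + τ' * w
  have hv' : IsUnit (φ v') := isUnit_of_const hB htop (Ideal.mem_span_singleton.2 ⟨φ w, by
    simp only [v', map_add, map_mul, hφR, hφτ, add_sub_cancel_left]⟩)
  let A'' := Localization.Away v'
  let ψ : A'' →+* B := IsLocalization.Away.lift (g := φ.toRingHom) v' hv'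
  have hψ : ∀ a, ψ (algebraMap A' A'' a) = φ a := IsLocalization.Away.lift_eq (g := φ.toRingHom) v' hv'
  haveI : Algebra.FiniteType R A'' := Algebra.FiniteType.trans ‹Algebra.FiniteType R A'›
    (IsLocalization.finiteType_of_monoid_fg (Submonoid.powers v') A'')
  let K : Ideal A'' := Ideal.span {algebraMap A' A'' s}
  let S := A'' ⧸ K
  have hψK : ∀ x ∈ K, Ideal.Quotient.mk (Ideal.span {f}) (ψ x) = 0 := by
    intro x hx
    obtain ⟨c, rfl⟩ := Ideal.mem_span_singleton.1 hx
    rw [Ideal.Quotient.eq_zero_iff_mem, map_mul, hψ, hs]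
    exact Ideal.mul_mem_right _ _ (Ideal.mem_span_singleton_self _)
  let ψS : S →+* B ⧸ Ideal.span {f} := Ideal.Quotient.lift K ((Ideal.Quotient.mk _).comp ψ) hψK
  have hS : ∀ p : R[X], algebraMap R[X] S p = Ideal.Quotient.mk K (algebraMap A' A'' (algebraMap R[X] A' p)) :=
    fun _ => rfl
  have hSR : ∀ r : R, algebraMap R S r = Ideal.Quotient.mk K (algebraMap A' A'' (algebraMap R A' r)) := fun _ => rfl
  have hconst : ∀ a : S, ∃ r : R, a - algebraMap R S r ∈ Ideal.span {algebraMap R[X] S X} := by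
    intro a
    obtain ⟨a, rfl⟩ := Ideal.Quotient.mk_surjective a
    obtain ⟨⟨b, ⟨_, k, rfl⟩⟩, hk⟩ := IsLocalization.surj (Submonoid.powers v') a
    obtain ⟨r, hr⟩ := nhd_const hbij.2 b
    obtain ⟨c, hc⟩ := Ideal.mem_span_singleton.1 hr
    refine ⟨r * (((htop.unit ^ k)⁻¹ : Rˣ) : R), ?_⟩
    let π : A' →+* S ⧸ Ideal.span {algebraMap R[X] S X} :=
      (Ideal.Quotient.mk _).comp ((Ideal.Quotient.mk K).comp (algebraMap A' A''))
    have hπτ : ∀ c, π (τ' * c) = π 0 := fun c => by
      rw [map_zero]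
      refine Ideal.Quotient.eq_zero_iff_mem.2 ?_
      rw [map_mul]
      exact Ideal.mul_mem_right _ _ (Ideal.mem_span_singleton_self _)
    rw [← Ideal.Quotient.eq]
    have hu : IsUnit (π v' ^ k) := (((IsLocalization.Away.algebraMap_isUnit (S := A'') v').map
      ((Ideal.Quotient.mk _).comp (Ideal.Quotient.mk K))).pow k)
    rw [← hu.mul_left_inj, hSR]
    show _ * π v' ^ k = π (algebraMap R A' _) * π v' ^ k
    have h1 : π b = π (algebraMap R A' r) := by
      rw [← sub_eq_zero, ← map_sub, hc, hπτ, map_zero]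
    have h2 : π v' = π (algebraMap R A' (q.coeff N)) := by
      show π (algebraMap R A' (q.coeff N) + τ' * w) = _
      rw [map_add, hπτ, map_zero, add_zero]
    have h3 := congrArg ((Ideal.Quotient.mk (Ideal.span {algebraMap R[X] S X})).comp (Ideal.Quotient.mk K)) hk
    rw [map_mul] at h3
    refine (show _ * π v' ^ k = π b from ?_).trans ?_
    · rw [← map_pow]; exact h3
    · rw [h1, h2, ← map_pow π, ← map_pow (algebraMap R A'), ← map_mul π, ← map_mul, mul_assoc]
      congr 2
      rw [show q.coeff N ^ k = ((htop.unit ^ k : Rˣ) : R) by simp, Units.inv_mul, mul_one]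
  have ht : algebraMap R[X] S X ^ N ∈ Ideal.map (algebraMap R S) 𝔪 := by
    have h1 : Ideal.Quotient.mk K (algebraMap A' A'' (s - τ' ^ N * v')) ∈ Ideal.map (algebraMap R S) 𝔪 := by
      have := Ideal.mem_map_of_mem ((Ideal.Quotient.mk K).comp (algebraMap A' A'')) hw
      rwa [Ideal.map_map] at this
    rw [map_sub, map_sub, show Ideal.Quotient.mk K (algebraMap A' A'' s) = 0 from
      Ideal.Quotient.eq_zero_iff_mem.2 (Ideal.mem_span_singleton_self _), zero_sub, neg_mem_iff, map_mul, map_mul,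
      Ideal.mul_unit_mem_iff_mem _ ((IsLocalization.Away.algebraMap_isUnit (S := A'') v').map _), map_pow, map_pow] at h1
    exact h1
  obtain ⟨P, e, hP, hdeg, he, hPe, s0, hs0⟩ := exists_monic_of_smul N hconst ht
  have he1 : ψS e = 1 := by
    rcases Nat.eq_zero_or_pos N with rfl | hN
    · haveI : Subsingleton (B ⧸ Ideal.span {f}) := by
        rw [Ideal.Quotient.subsingleton_iff, Ideal.span_singleton_eq_top]
        refine (isUnit_or_mem hB f).resolve_right fun h => hfN' ?_
        simpa using h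
      exact Subsingleton.elim _ _
    · obtain ⟨be, hbe⟩ := Ideal.Quotient.mk_surjective (ψS e)
      obtain ⟨bs, hbs⟩ := Ideal.Quotient.mk_surjective (ψS s0)
      have hψR : ψS.comp (algebraMap R S) = (Ideal.Quotient.mk (Ideal.span {f})).comp (algebraMap R B) :=
        RingHom.ext fun r => congrArg (Ideal.Quotient.mk _) ((hψ _).trans (hφR r))
      have h1 := Ideal.mem_map_of_mem ψS hs0
      rw [Ideal.map_map, hψR, ← Ideal.map_map, map_sub, map_one, map_mul, ← hbe, ← hbs, ← map_mul,
        ← map_one (Ideal.Quotient.mk (Ideal.span {f})), ← map_sub] at h1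
      obtain ⟨y, hy, hy'⟩ := (Ideal.mem_map_iff_of_surjective _ Ideal.Quotient.mk_surjective).1 h1
      rw [Ideal.Quotient.eq] at hy'
      have hu : IsUnit (be * bs) := (isUnit_or_mem hB _).resolve_right fun h => nontrivial_mod hB (by
        have hft : f ∈ Ideal.map (algebraMap R B) 𝔪 ⊔ Ideal.span {t} :=
          (sup_le le_sup_left ((Ideal.span_singleton_le_span_singleton.2 (dvd_pow_self t hN.ne')).trans
            le_sup_right) : _ ≤ Ideal.map (algebraMap R B) 𝔪 ⊔ Ideal.span {t}) hfN
        obtain ⟨c, hc⟩ := Ideal.mem_span_singleton.1 hy'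
        rw [show (1 : B) = be * bs + y - f * c by linear_combination -hc]
        exact Ideal.sub_mem _ (Ideal.add_mem _ h (Ideal.mem_sup_left hy)) (Ideal.mul_mem_right _ _ hft))
      refine (IsIdempotentElem.iff_eq_one_of_isUnit ?_).1 (he.map ψS)
      rw [← hbe]
      exact (isUnit_of_mul_isUnit_left hu).map _
  have hPf : algebraMap R[X] B P ∈ Ideal.span {f} := by
    obtain ⟨c, hc⟩ := Ideal.mem_span_singleton.1 hPe
    rw [← Ideal.Quotient.eq_zero_iff_mem,
      show Ideal.Quotient.mk (Ideal.span {f}) (algebraMap R[X] B P) = ψS (algebraMap R[X] S P) from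
        congrArg (Ideal.Quotient.mk _) ((hψ _).trans (φ.commutes P)).symm, hc, map_mul, map_sub, map_one, he1,
      sub_self, zero_mul]
  obtain ⟨g, hg⟩ := Ideal.mem_span_singleton.1 hPf
  have hnd : P.natDegree = N := natDegree_eq_of_degree_eq_some hdeg
  have hPd : IsDistinguished P := ⟨hP, fun i hi => coeff_mem hB (q := P) (n := N)
    (by rw [hg]; exact Ideal.mul_mem_right _ _ hfN) i (hnd ▸ hi)⟩
  have hgu : IsUnit g := (isUnit_or_mem hB g).resolve_right fun h => by
    have : algebraMap R[X] B P ∈ Ideal.map (algebraMap R B) 𝔪 ⊔ Ideal.span {t ^ (N + 1)} := by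
      obtain ⟨a, ha, b, hb, rfl⟩ := Submodule.mem_sup.1 h
      obtain ⟨a', ha', b', hb', rfl⟩ := Submodule.mem_sup.1 hfN
      rw [hg, show (a' + b') * (a + b) = (a' * (a + b) + b' * a) + b' * b by ring]
      refine Ideal.add_mem _ (Ideal.mem_sup_left (Ideal.add_mem _ (Ideal.mul_mem_right _ _ ha') (Ideal.mul_mem_left _ _ ha)))
        (Ideal.mem_sup_right ?_)
      rw [pow_succ, ← Ideal.span_singleton_mul_span_singleton]
      exact Ideal.mul_mem_mul hb' hb
    have h1 := coeff_mem hB this N (Nat.lt_succ_self N)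
    rw [show P.coeff N = 1 from hnd ▸ hP] at h1
    exact (IsLocalRing.maximalIdeal.isMaximal R).ne_top ((Ideal.eq_top_iff_one _).2 h1)
  exact ⟨P, hgu.unit⁻¹, hPd, by rw [hg, mul_assoc, IsUnit.mul_val_inv, mul_one]⟩

/-- Weierstrass division. -/
theorem quotient_distinguished {P : R[X]} (hP : IsDistinguished P) :
    (∀ b : B, ∃ q : R[X], algebraMap R[X] B q - b ∈ Ideal.span {algebraMap R[X] B P}) ∧
      ∀ q : R[X], algebraMap R[X] B q ∈ Ideal.span {algebraMap R[X] B P} → q ∈ Ideal.span {P} := by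
  let C' := R[X] ⧸ Ideal.span {P}
  let J : Ideal C' := Ideal.map (algebraMap R C') 𝔪 ⊔ Ideal.span {Ideal.Quotient.mk _ X}
  haveI : Module.Finite R C' := hP.1.finite_quotient
  haveI : HenselianRing C' (Ideal.map (algebraMap R C') 𝔪) := Hensel.henselianRing_integral R 𝔪 C'
  have hX : (Ideal.Quotient.mk (Ideal.span {P}) X : C') ^ P.natDegree ∈ Ideal.map (algebraMap R C') 𝔪 := by
    have h1 : X ^ P.natDegree - P ∈ Ideal.map C 𝔪 := by
      rw [Ideal.mem_map_C_iff]
      intro i
      rw [coeff_sub, coeff_X_pow]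
      rcases lt_trichotomy i P.natDegree with hi | hi | hi
      · rw [if_neg hi.ne, zero_sub]; exact neg_mem (hP.2 i hi)
      · rw [if_pos hi, hi, hP.1.coeff_natDegree, sub_self]; exact zero_mem _
      · rw [if_neg hi.ne', coeff_eq_zero_of_natDegree_lt hi, sub_zero]; exact zero_mem _
    have h2 := Ideal.mem_map_of_mem (Ideal.Quotient.mk (Ideal.span {P})) h1
    rw [Ideal.map_map, map_sub, map_pow, Ideal.Quotient.eq_zero_iff_mem.2 (Ideal.mem_span_singleton_self P),
      sub_zero] at h2
    exact h2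
  have hJ : HenselianRing C' J := by
    refine (Hensel.henselianRing_iff_of_radical (le_antisymm ?_ ?_)).1 ‹_›
    · exact Ideal.radical_mono le_sup_left
    · refine Ideal.radical_le_radical_iff.2 (sup_le Ideal.le_radical ?_)
      rw [Ideal.span_singleton_le_iff_mem]
      exact ⟨_, hX⟩
  obtain ⟨g, hg, -⟩ := hB.2 C' J (Ideal.Quotient.mk _) hJ (by
    rw [Ideal.map_span, Set.image_singleton]; exact le_sup_right)
  have hgP : g (algebraMap R[X] B P) = 0 := by
    rw [← RingHom.comp_apply, hg]; exact Ideal.Quotient.eq_zero_iff_mem.2 (Ideal.mem_span_singleton_self P)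
  refine ⟨fun b => ?_, fun q hq => ?_⟩
  · let K := Ideal.span {algebraMap R[X] B P}
    haveI : HenselianRing B (Ideal.span {t}) := by rw [← span_X_map]; exact hB.1
    have hH := Hensel.henselianRing_integral B (Ideal.span {t}) (B ⧸ K)
    let ι' : C' →+* B ⧸ K := Ideal.quotientMap K (algebraMap R[X] B) (by
      rw [Ideal.span_singleton_le_iff_mem, Ideal.mem_comap]; exact Ideal.mem_span_singleton_self _)
    obtain ⟨k, -, huniq⟩ := hB.2 (B ⧸ K) _ ((Ideal.Quotient.mk K).comp (algebraMap R[X] B)) hH (by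
      rw [← Ideal.map_map, span_X_map]; exact le_rfl)
    obtain ⟨q, hq⟩ := Ideal.Quotient.mk_surjective (g b)
    refine ⟨q, Ideal.Quotient.eq.1 ?_⟩
    have e1 := huniq (Ideal.Quotient.mk K) rfl
    have e2 := huniq (ι'.comp g) (by
      show (ι'.comp g).comp _ = _
      rw [RingHom.comp_assoc, hg]; rfl)
    have := congrArg (fun F : B →+* B ⧸ K => F b) (e2.trans e1.symm)
    simp only [RingHom.comp_apply, ← hq] at this
    exact this
  · rw [← Ideal.Quotient.eq_zero_iff_mem, ← hg, RingHom.comp_apply]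
    obtain ⟨c, hc⟩ := Ideal.mem_span_singleton.1 hq
    rw [hc, map_mul, hgP, zero_mul]

theorem isNonZeroDivisor {P : R[X]} (hP : P.Monic) {a b : B} (h : algebraMap R[X] B P * a = algebraMap R[X] B P * b) :
    a = b := by
  haveI : Module.Flat R[X] B := Hensel.pairHenselization_flat hB
  refine (Module.Flat.isSMulRegular_of_isRegular (M := B)
    (hP.isRegular)) ?_
  show P • a = P • b
  rwa [Algebra.smul_def, Algebra.smul_def]

theorem unique_factor {P P' : R[X]} {u u' : Bˣ} (hP : IsDistinguished P) (hP' : IsDistinguished P')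
    (h : algebraMap R[X] B P * (u : B) = algebraMap R[X] B P' * (u' : B)) : P = P' ∧ u = u' := by
  have h1 : P' ∈ Ideal.span {P} := (quotient_distinguished hB hP).2 P' (Ideal.mem_span_singleton.2
    ⟨(u : B) * (u'⁻¹ : Bˣ), by rw [← mul_assoc, h, mul_assoc, Units.mul_inv, mul_one]⟩)
  have h2 : P ∈ Ideal.span {P'} := (quotient_distinguished hB hP').2 P (Ideal.mem_span_singleton.2
    ⟨(u' : B) * (u⁻¹ : Bˣ), by rw [← mul_assoc, ← h, mul_assoc, Units.mul_inv, mul_one]⟩)
  obtain rfl : P = P' := by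
    refine eq_of_monic_of_dvd_of_natDegree_le hP.1 hP'.1 (Ideal.mem_span_singleton.1 h1) ?_ |>.symm
    obtain ⟨k, hk⟩ := Ideal.mem_span_singleton.1 h2
    rw [hk, hP'.1.natDegree_mul' (fun h0 => hP.1.ne_zero (by rw [hk, h0, mul_zero]))]
    exact Nat.le_add_right _ _
  exact ⟨rfl, Units.ext (isNonZeroDivisor hB hP.1 h)⟩

end Groth.Agent.WPrep
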