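import Groth.Agent.WPrep.Main

/-!
The ideals of `R[s]` away from the special fibre are those of `R{t}[1/t]`, `s = 1/t`.
-/

set_option autoImplicit false
set_option linter.style.haveILetI false

universe u

open Polynomial

namespace Groth.Agent.WPrep

/-- Ideals containing an element along which the quotients agree. -/
theorem ideal_corr {A L : Type u} [CommRing A] [CommRing L] (ψ : A →+* L) {f : A}
    (hsurj : ∀ l, ∃ a, l - ψ a ∈ Ideal.span {ψ f}) (hker : ∀ a, ψ a ∈ Ideal.span {ψ f} → a ∈ Ideal.span {f})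
    {I : Ideal A} (hf : f ∈ I) :
    (I.map ψ).comap ψ = I ∧ Function.Bijective (Ideal.quotientMap (I.map ψ) ψ Ideal.le_comap_map) := by
  have hmap : ∀ l ∈ I.map ψ, ∃ a ∈ I, l - ψ a ∈ Ideal.span {ψ f} := by
    intro l hl
    refine Submodule.span_induction (p := fun l _ => ∃ a ∈ I, l - ψ a ∈ Ideal.span {ψ f}) ?_ ?_ ?_ ?_ hl
    · rintro _ ⟨a, ha, rfl⟩
      exact ⟨a, ha, by rw [sub_self]; exact zero_mem _⟩
    · exact ⟨0, zero_mem _, by rw [map_zero, sub_self]; exact zero_mem _⟩
    · rintro x y _ _ ⟨a, ha, hx⟩ ⟨b, hb, hy⟩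
      exact ⟨a + b, add_mem ha hb, by rw [map_add, add_sub_add_comm]; exact add_mem hx hy⟩
    · rintro c x _ ⟨a, ha, hx⟩
      obtain ⟨b, hb⟩ := hsurj c
      refine ⟨b * a, Ideal.mul_mem_left _ _ ha, ?_⟩
      rw [smul_eq_mul, map_mul, show c * x - ψ b * ψ a = c * (x - ψ a) + (c - ψ b) * ψ a by ring]
      exact add_mem (Ideal.mul_mem_left _ _ hx) (Ideal.mul_mem_right _ _ hb)
  have heq : (I.map ψ).comap ψ = I := by
    refine le_antisymm (fun a ha => ?_) Ideal.le_comap_map
    obtain ⟨b, hb, hab⟩ := hmap _ ha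
    rw [← map_sub] at hab
    rw [← sub_add_cancel a b]
    exact add_mem ((Ideal.span_singleton_le_iff_mem I).2 hf (hker _ hab)) hb
  refine ⟨heq, Ideal.quotientMap_injective' heq.le, fun x => ?_⟩
  obtain ⟨l, rfl⟩ := Ideal.Quotient.mk_surjective x
  obtain ⟨a, ha⟩ := hsurj l
  refine ⟨Ideal.Quotient.mk I a, Ideal.quotientMap_mk.trans (Ideal.Quotient.eq.2 ?_).symm⟩
  exact (Ideal.span_singleton_le_iff_mem _).2 (Ideal.mem_map_of_mem _ hf) ha

theorem map_comap_of_surj {A L : Type u} [CommRing A] [CommRing L] (ψ : A →+* L) {f : A}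
    (hsurj : ∀ l, ∃ a, l - ψ a ∈ Ideal.span {ψ f}) {J : Ideal L} (hf : ψ f ∈ J) : (J.comap ψ).map ψ = J := by
  refine le_antisymm Ideal.map_comap_le fun l hl => ?_
  obtain ⟨a, ha⟩ := hsurj l
  have h1 : ψ a ∈ J := by
    have := J.sub_mem hl ((Ideal.span_singleton_le_iff_mem J).2 hf ha)
    rwa [sub_sub_cancel] at this
  rw [← sub_add_cancel l (ψ a)]
  refine add_mem ?_ (Ideal.mem_map_of_mem ψ h1)
  exact (Ideal.span_singleton_le_iff_mem _).2 (Ideal.mem_map_of_mem ψ (show f ∈ J.comap ψ from hf)) ha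

variable {R B : Type u} [CommRing R] [CommRing B] [Algebra R B] [Algebra R[X] B] [IsScalarTower R R[X] B]
  [HenselianLocalRing R] (hB : Hens2.IsPairHenselization R[X] (Ideal.span {(X : R[X])}) B)
  (ψ : R[X] →ₐ[R] Localization.Away (algebraMap R[X] B X))
  (hψ : ψ X * algebraMap B (Localization.Away (algebraMap R[X] B X)) (algebraMap R[X] B X) = 1)

local notation "t" => algebraMap R[X] B Polynomial.X
local notation "𝔪" => IsLocalRing.maximalIdeal R
local notation "Lt" => Localization.Away (algebraMap R[X] B Polynomial.X)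

include hψ in
theorem psi_mul_pow {p : R[X]} {n : ℕ} (hp : p.natDegree ≤ n) :
    ψ p * algebraMap B Lt t ^ n = algebraMap B Lt (algebraMap R[X] B (p.reflect n)) := by
  letI : Invertible (algebraMap B Lt t) := ⟨ψ X, hψ, by rw [mul_comm]; exact hψ⟩
  have h := eval₂_reflect_mul_pow (algebraMap R Lt) (algebraMap B Lt t) n (p.reflect n)
    (natDegree_reflect_le.trans (max_le le_rfl hp))
  rw [reflect_reflect] at h
  have e1 : eval₂ (algebraMap R Lt) (⅟(algebraMap B Lt t)) p = ψ p := by
    show aeval (ψ X) p = ψ p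
    rw [aeval_algHom_apply, aeval_X_left_apply]
  have e2 : eval₂ (algebraMap R Lt) (algebraMap B Lt t) (p.reflect n) =
      algebraMap B Lt (algebraMap R[X] B (p.reflect n)) := by
    show aeval ((IsScalarTower.toAlgHom R B Lt).comp (IsScalarTower.toAlgHom R R[X] B) X) (p.reflect n) = _
    rw [aeval_algHom_apply, aeval_X_left_apply]
    rfl
  rw [e1, e2] at h
  exact h

theorem coeff_of_sub_one_mem {f : R[X]} (hf : f - 1 ∈ Ideal.map (C : R →+* R[X]) 𝔪) :
    IsUnit (f.coeff 0) ∧ ∀ i, 0 < i → f.coeff i ∈ 𝔪 := by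
  rw [Ideal.mem_map_C_iff] at hf
  refine ⟨?_, fun i hi => by have := hf i; rwa [coeff_sub, coeff_one, if_neg hi.ne', sub_zero] at this⟩
  by_contra hu
  have := hf 0
  rw [coeff_sub, coeff_one_zero] at this
  exact (IsLocalRing.maximalIdeal.isMaximal R).ne_top ((Ideal.eq_top_iff_one _).2
    (by simpa using sub_mem (show f.coeff 0 ∈ 𝔪 from hu) this))

include hB hψ in
theorem quotient_corr {f : R[X]} (hf : f - 1 ∈ Ideal.map (C : R →+* R[X]) 𝔪) :
    (∀ l, ∃ a, l - ψ a ∈ Ideal.span {ψ f}) ∧ ∀ a, ψ a ∈ Ideal.span {ψ f} → a ∈ Ideal.span {f} := by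
  obtain ⟨hc, hm⟩ := coeff_of_sub_one_mem hf
  let d := f.natDegree
  let ci : R := ((hc.unit⁻¹ : Rˣ) : R)
  have hci : f.coeff 0 * ci = 1 := hc.mul_val_inv
  let P := C ci * f.reflect d
  have hPd : P.natDegree ≤ d := natDegree_C_mul_le _ _ |>.trans (natDegree_reflect_le.trans (max_le le_rfl le_rfl))
  have hPc : P.coeff d = 1 := by
    rw [coeff_C_mul, coeff_reflect, revAt_le le_rfl, Nat.sub_self, mul_comm, hci]
  have hPm : P.Monic := monic_of_natDegree_le_of_coeff_eq_one d hPd hPc
  have hPn : P.natDegree = d := le_antisymm hPd (le_natDegree_of_ne_zero (by rw [hPc]; exact one_ne_zero))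
  have hP : IsDistinguished P := ⟨hPm, fun i hi => by
    rw [hPn] at hi
    rw [coeff_C_mul, coeff_reflect, revAt_le hi.le]
    exact Ideal.mul_mem_left _ _ (hm _ (by omega))⟩
  have hfP : f.reflect d = C (f.coeff 0) * P := by
    rw [← mul_assoc, ← C_mul, hci, C_1, one_mul]
  have hcop : IsCoprime X f := by
    obtain ⟨h, hh⟩ := (X_dvd_iff (f := f - C (f.coeff 0))).2 (by simp)
    refine ⟨-(C ci * h), C ci, ?_⟩
    have e : C (f.coeff 0) * C ci = (1 : R[X]) := by rw [← C_mul, hci, C_1]
    linear_combination C ci * hh + e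
  refine ⟨fun l => ?_, fun a ha => ?_⟩
  · obtain ⟨h, hh⟩ := (X_dvd_iff (f := f - C (f.coeff 0))).2 (by simp)
    let K := Ideal.span {ψ f}
    let π : R[X] →+* Lt ⧸ K := (Ideal.Quotient.mk K).comp ψ.toRingHom
    have hπf : π f = 0 := Ideal.Quotient.eq_zero_iff_mem.2 (Ideal.mem_span_singleton_self _)
    have hπt : π X * Ideal.Quotient.mk K (algebraMap B Lt t) = 1 := by
      rw [show π X = Ideal.Quotient.mk K (ψ X) from rfl, ← map_mul, hψ, map_one]
    have htinv : π (-(C ci * h)) = Ideal.Quotient.mk K (algebraMap B Lt t) := by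
      have e : π (-(C ci * h)) * π X = 1 := by
        rw [← map_mul, ← map_one π, ← sub_eq_zero, ← map_sub,
          show -(C ci * h) * X - 1 = -(C ci * f) by
            have e : C (f.coeff 0) * C ci = (1 : R[X]) := by rw [← C_mul, hci, C_1]
            linear_combination C ci * hh + e, map_neg, map_mul, hπf, mul_zero, neg_zero]
      exact left_inv_eq_right_inv e hπt
    obtain ⟨⟨b, ⟨_, k, rfl⟩⟩, hk⟩ := IsLocalization.surj (Submonoid.powers t) l
    obtain ⟨q, hq⟩ := (quotient_distinguished hB hP).1 b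
    refine ⟨q.comp (-(C ci * h)) * X ^ k, Ideal.Quotient.eq.1 ?_⟩
    have hPK : algebraMap B Lt (algebraMap R[X] B P) ∈ K := by
      have h1 := psi_mul_pow ψ hψ (p := f) (n := d) le_rfl
      rw [hfP, map_mul, map_mul] at h1
      have hu : IsUnit (algebraMap B Lt (algebraMap R[X] B (C (f.coeff 0)))) :=
        ((isUnit_C.2 hc).map _).map _
      rw [← Ideal.unit_mul_mem_iff_mem K hu, ← h1]
      exact Ideal.mul_mem_right _ _ (Ideal.mem_span_singleton_self _)
    have hb : Ideal.Quotient.mk K (algebraMap B Lt b) = Ideal.Quotient.mk K (algebraMap B Lt (algebraMap R[X] B q)) := by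
      refine (Ideal.Quotient.eq.2 ?_).symm
      rw [← map_sub]
      obtain ⟨c, hc'⟩ := Ideal.mem_span_singleton.1 hq
      rw [hc', map_mul]
      exact Ideal.mul_mem_right _ _ hPK
    have hq' : Ideal.Quotient.mk K (algebraMap B Lt (algebraMap R[X] B q)) = π (q.comp (-(C ci * h))) := by
      refine RingHom.congr_fun (Polynomial.ringHom_ext (f := (Ideal.Quotient.mk K).comp ((algebraMap B Lt).comp
        (algebraMap R[X] B))) (g := π.comp (compRingHom (-(C ci * h)))) (fun r => ?_) ?_) q
      · simp only [RingHom.comp_apply, coe_compRingHom_apply, C_comp]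
        refine congrArg (Ideal.Quotient.mk K) ?_
        rw [algebraMap_C, ← IsScalarTower.algebraMap_apply]
        exact (ψ.commutes r).symm
      · simp only [RingHom.comp_apply, coe_compRingHom_apply, X_comp]
        exact htinv.symm
    have hk' := congrArg (Ideal.Quotient.mk K) hk
    rw [map_mul, map_pow, map_pow, hb, hq'] at hk'
    show Ideal.Quotient.mk K l = π (_ * X ^ k)
    rw [map_mul, map_pow, ← hk', mul_assoc, ← mul_pow, mul_comm _ (π X), hπt, one_pow, mul_one]
  · obtain ⟨l, hl⟩ := Ideal.mem_span_singleton.1 ha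
    obtain ⟨⟨b, ⟨_, M, rfl⟩⟩, hM⟩ := IsLocalization.surj (Submonoid.powers t) l
    let n := a.natDegree
    have h1 := psi_mul_pow ψ hψ (p := a) (n := n) le_rfl
    have h2 := psi_mul_pow ψ hψ (p := f) (n := d) le_rfl
    rw [map_pow] at hM
    have h3 : algebraMap B Lt (t ^ (d + M) * algebraMap R[X] B (a.reflect n)) =
        algebraMap B Lt (algebraMap R[X] B P * (algebraMap R[X] B (C (f.coeff 0)) * b * t ^ n)) := by
      simp only [map_mul, map_pow]
      rw [hfP, map_mul, map_mul] at h2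
      rw [← h1, hl, pow_add]
      linear_combination (algebraMap B Lt t ^ n * (l * algebraMap B Lt t ^ M)) * h2 +
        (algebraMap B Lt t ^ n * algebraMap B Lt (algebraMap R[X] B (C (f.coeff 0))) *
          algebraMap B Lt (algebraMap R[X] B P)) * hM
    obtain ⟨⟨_, k, rfl⟩, hk⟩ := (IsLocalization.eq_iff_exists (Submonoid.powers t) Lt).1 h3
    let E := k + (d + M)
    have h4 : X ^ E * a.reflect n ∈ Ideal.span {P} := by
      refine (quotient_distinguished hB hP).2 _ (Ideal.mem_span_singleton.2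
        ⟨t ^ k * (algebraMap R[X] B (C (f.coeff 0)) * b * t ^ n), ?_⟩)
      simp only [map_mul, map_pow, E, pow_add t k]
      linear_combination hk
    obtain ⟨h, hh⟩ := Ideal.mem_span_singleton.1 h4
    have hdeg : h.natDegree ≤ E + n := by
      by_cases h0 : h = 0
      · simp [h0]
      · have h5 : (X ^ E * a.reflect n).natDegree ≤ E + n :=
          natDegree_mul_le.trans (add_le_add (natDegree_X_pow_le _) (natDegree_reflect_le.trans (max_le le_rfl le_rfl)))
        rw [hh, hPm.natDegree_mul' h0] at h5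
        omega
    have h6 : reflect (d + (E + n)) (P * h) = C ci * f * reflect (E + n) h := by
      rw [reflect_mul P h hPd hdeg, reflect_C_mul, reflect_reflect]
    have h7 : reflect (E + (n + d)) (X ^ E * a.reflect n) = a * X ^ d := by
      rw [reflect_mul _ _ (natDegree_X_pow_le E) (natDegree_reflect_le.trans (max_le (Nat.le_add_right n d)
        (Nat.le_add_right n d))), reflect_monomial, revAt_le le_rfl, Nat.sub_self, pow_zero, one_mul,
        ← mul_one (a.reflect n), reflect_mul (a.reflect n) 1 (natDegree_reflect_le.trans (max_le le_rfl le_rfl))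
          (by simp), reflect_reflect, reflect_one]
    rw [hh, show E + (n + d) = d + (E + n) by ring, h6] at h7
    refine Ideal.mem_span_singleton.2 ((hcop.symm.pow_right (n := d)).dvd_of_dvd_mul_right ⟨C ci * reflect (E + n) h, ?_⟩)
    rw [← h7]
    ring

include hB hψ in
theorem exists_mem_of_comax {J : Ideal Lt} (hJ : J ⊔ Ideal.map (algebraMap R Lt) 𝔪 = ⊤) :
    ∃ f : R[X], f - 1 ∈ Ideal.map (C : R →+* R[X]) 𝔪 ∧ ψ f ∈ J := by
  obtain ⟨a, ha, x, hx, hax⟩ := Submodule.mem_sup.1 (show (1 : Lt) ∈ J ⊔ Ideal.map (algebraMap R Lt) 𝔪 by rw [hJ]; trivial)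
  rw [IsScalarTower.algebraMap_eq R B Lt, ← Ideal.map_map,
    IsLocalization.mem_map_algebraMap_iff (Submonoid.powers t)] at hx
  obtain ⟨⟨⟨y, hy⟩, ⟨_, n, rfl⟩⟩, hxy⟩ := hx
  have hb : t ^ n - y ∉ Ideal.map (algebraMap R B) 𝔪 := fun h => pow_notMem hB n (Ideal.mem_sup_left (by
    simpa using Ideal.add_mem _ h hy))
  obtain ⟨P, u, hP, hPu⟩ := exists_factor hB hb
  have hPN : algebraMap R[X] B P - t ^ P.natDegree ∈ Ideal.map (algebraMap R B) 𝔪 := by
    have h1 : P - X ^ P.natDegree ∈ Ideal.map (C : R →+* R[X]) 𝔪 := by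
      rw [Ideal.mem_map_C_iff]
      intro i
      rw [coeff_sub, coeff_X_pow]
      rcases lt_trichotomy i P.natDegree with hi | hi | hi
      · rw [if_neg hi.ne, sub_zero]; exact hP.2 i hi
      · rw [if_pos hi, hi, hP.1.coeff_natDegree, sub_self]; exact zero_mem _
      · rw [if_neg hi.ne', coeff_eq_zero_of_natDegree_lt hi, sub_zero]; exact zero_mem _
    have h2 := Ideal.mem_map_of_mem (algebraMap R[X] B) h1
    rw [Ideal.map_map, map_sub, map_pow] at h2
    exact (IsScalarTower.algebraMap_eq R R[X] B) ▸ h2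
  have hn : P.natDegree = n := by
    set N := P.natDegree
    have key : t ^ n - t ^ N * (u : B) ∈ Ideal.map (algebraMap R B) 𝔪 := by
      rw [show t ^ n - t ^ N * (u : B) = y + (algebraMap R[X] B P - t ^ N) * u by linear_combination hPu]
      exact Ideal.add_mem _ hy (Ideal.mul_mem_right _ _ hPN)
    rcases lt_trichotomy N n with h | h | h
    · refine absurd ?_ (pow_notMem hB N)
      rw [← Ideal.mul_unit_mem_iff_mem _ u.isUnit, show t ^ N * (u : B) = -(t ^ n - t ^ N * u) + t ^ n by ring]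
      exact Ideal.add_mem _ (Ideal.mem_sup_left (Ideal.neg_mem_iff _ |>.2 key))
        (Ideal.mem_sup_right (Ideal.mem_span_singleton.2 (pow_dvd_pow _ h)))
    · exact h
    · refine absurd ?_ (pow_notMem hB n)
      rw [show t ^ n = (t ^ n - t ^ N * u) + t ^ N * u by ring]
      exact Ideal.add_mem _ (Ideal.mem_sup_left key)
        (Ideal.mem_sup_right (Ideal.mem_span_singleton.2 ((pow_dvd_pow _ h).mul_right _)))
  refine ⟨P.reflect n, ?_, ?_⟩
  · rw [Ideal.mem_map_C_iff]
    intro i
    rw [coeff_sub, coeff_reflect, coeff_one]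
    rcases Nat.eq_zero_or_pos i with rfl | hi
    · rw [revAt_le (Nat.zero_le _), if_pos rfl, Nat.sub_zero, ← hn, hP.1.coeff_natDegree, sub_self]
      exact zero_mem _
    · rw [if_neg hi.ne', sub_zero]
      by_cases hin : i ≤ n
      · rw [revAt_le hin]; exact hP.2 _ (by omega)
      · rw [revAt_eq_self_of_lt (not_le.1 hin), coeff_eq_zero_of_natDegree_lt (by omega)]
        exact zero_mem _
  · have h1 := psi_mul_pow ψ hψ (p := P.reflect n) (n := n) (natDegree_reflect_le.trans (max_le le_rfl hn.le))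
    rw [reflect_reflect] at h1
    have hu : IsUnit (algebraMap B Lt t ^ n) := (IsLocalization.Away.algebraMap_isUnit (S := Lt) t).pow n
    rw [← Ideal.mul_unit_mem_iff_mem J hu, h1, ← Ideal.mul_unit_mem_iff_mem J (u.isUnit.map (algebraMap B Lt)),
      ← map_mul, ← hPu, map_sub, map_pow]
    simp only [map_pow] at hxy
    rw [show algebraMap B Lt t ^ n - algebraMap B Lt y = algebraMap B Lt t ^ n * a by
      linear_combination hxy - algebraMap B Lt t ^ n * hax]
    exact Ideal.mul_mem_left _ _ ha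

end Groth.Agent.WPrep
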