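import Groth.Agent.Hensel.PairEnvelopeStage
import Groth.Agent.Hensel.Decomp
import Groth.Agent.Hensel.Ops
import Mathlib

/-!
Weierstrass preparation in the henselization of `R[t]` along `(t)`, `R` henselian local.
-/

set_option autoImplicit false
set_option linter.style.haveILetI false

universe u

open Polynomial

namespace Groth.Agent.WPrep

section Stage

variable {R S : Type u} [CommRing R] [CommRing S] [Algebra R S] [Algebra R[X] S] [IsScalarTower R R[X] S]

local notation "τ" => algebraMap R[X] S Polynomial.X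

theorem algebraMap_C (r : R) : algebraMap R[X] S (C r) = algebraMap R S r :=
  (IsScalarTower.algebraMap_apply R R[X] S r).symm

/-- Expansion in powers of the variable. -/
theorem exists_poly (h : ∀ a : S, ∃ r : R, a - algebraMap R S r ∈ Ideal.span {τ}) (n : ℕ) (a : S) :
    ∃ q : R[X], a - algebraMap R[X] S q ∈ Ideal.span {τ ^ n} := by
  induction n generalizing a with
  | zero => exact ⟨0, by simp⟩
  | succ n ih =>
    obtain ⟨r, hr⟩ := h a
    obtain ⟨b, hb⟩ := Ideal.mem_span_singleton.1 hr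
    obtain ⟨q, hq⟩ := ih b
    obtain ⟨c, hc⟩ := Ideal.mem_span_singleton.1 hq
    refine ⟨C r + X * q, Ideal.mem_span_singleton.2 ⟨c, ?_⟩⟩
    rw [map_add, map_mul, algebraMap_C, pow_succ]
    linear_combination hb + τ * hc

theorem poly_mem {m : Ideal R} {n : ℕ} {q : R[X]} (hq : ∀ i < n, q.coeff i ∈ m) :
    algebraMap R[X] S q ∈ m.map (algebraMap R S) ⊔ Ideal.span {τ ^ n} := by
  rw [q.as_sum_range_C_mul_X_pow, map_sum]
  refine Ideal.sum_mem _ fun i _ => ?_
  rw [map_mul, map_pow, algebraMap_C]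
  by_cases hi : i < n
  · exact Ideal.mem_sup_left (Ideal.mul_mem_right _ _ (Ideal.mem_map_of_mem _ (hq i hi)))
  · refine Ideal.mem_sup_right (Ideal.mul_mem_left _ _ (Ideal.mem_span_singleton.2 ?_))
    exact pow_dvd_pow _ (not_lt.1 hi)

theorem poly_deg_lt_mem_span {n : ℕ} {q : R[X]} (hq : q.degree < n) :
    algebraMap R[X] S q ∈ Submodule.span R (Set.range fun i : Fin n => τ ^ (i : ℕ)) := by
  rw [q.as_sum_range_C_mul_X_pow, map_sum]
  refine Submodule.sum_mem _ fun i _ => ?_
  rw [map_mul, map_pow, algebraMap_C, ← Algebra.smul_def]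
  by_cases hi : i < n
  · exact Submodule.smul_mem _ _ (Submodule.subset_span ⟨⟨i, hi⟩, rfl⟩)
  · rw [coeff_eq_zero_of_degree_lt (hq.trans_le (by exact_mod_cast not_lt.1 hi)), zero_smul]
    exact zero_mem _

/-- The finite part over the henselian base. -/
theorem exists_monic_of_smul [HenselianLocalRing R] [Algebra.FiniteType R S] (N : ℕ)
    (h : ∀ a : S, ∃ r : R, a - algebraMap R S r ∈ Ideal.span {τ})
    (ht : τ ^ N ∈ (IsLocalRing.maximalIdeal R).map (algebraMap R S)) :
    ∃ (P : R[X]) (e : S), P.Monic ∧ P.degree = N ∧ IsIdempotentElem e ∧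
      algebraMap R[X] S P ∈ Ideal.span {1 - e} ∧
      ∃ s : S, 1 - e * s ∈ (IsLocalRing.maximalIdeal R).map (algebraMap R S) := by
  set m := IsLocalRing.maximalIdeal R
  obtain ⟨e, he, hfin, hq⟩ := Hensel.exists_idempotent_finite R S
  let Q := S ⧸ Ideal.span ({1 - e} : Set S)
  let M : Submodule R Q := Submodule.span R (Set.range fun i : Fin N =>
    Ideal.Quotient.mk (Ideal.span ({1 - e} : Set S)) τ ^ (i : ℕ))
  have hM : (⊤ : Submodule R Q) ≤ M ⊔ m • (⊤ : Submodule R Q) := by
    intro x _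
    obtain ⟨a, rfl⟩ := Ideal.Quotient.mk_surjective x
    obtain ⟨q, hqa⟩ := exists_poly h N a
    have h1 : a - algebraMap R[X] S (q %ₘ X ^ N) ∈ m.map (algebraMap R S) := by
      have hsplit : algebraMap R[X] S q = algebraMap R[X] S (q %ₘ X ^ N) + τ ^ N * algebraMap R[X] S (q /ₘ X ^ N) := by
        rw [← map_pow, ← map_mul, ← map_add, modByMonic_add_div q (X ^ N)]
      obtain ⟨c, hc⟩ := Ideal.mem_span_singleton.1 hqa
      rw [show a - algebraMap R[X] S (q %ₘ X ^ N) = τ ^ N * (c + algebraMap R[X] S (q /ₘ X ^ N)) by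
        linear_combination hc + hsplit]
      exact Ideal.mul_mem_right _ _ ht
    rw [← sub_add_cancel a (algebraMap R[X] S (q %ₘ X ^ N)), map_add]
    refine Submodule.add_mem _ (Submodule.mem_sup_right ?_) ?_
    · have h2 := Ideal.mem_map_of_mem (Ideal.Quotient.mk (Ideal.span ({1 - e} : Set S))) h1
      rw [Ideal.map_map] at h2
      rw [Ideal.smul_top_eq_map]
      exact h2
    · refine Submodule.mem_sup_left ?_
      have hdeg : (q %ₘ X ^ N).degree < N :=
        (degree_modByMonic_lt q (monic_X_pow N)).trans_le (by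
          rcases subsingleton_or_nontrivial R with hR | hR
          · rw [Subsingleton.elim (X ^ N : R[X]) 0, degree_zero]; exact bot_le
          · rw [degree_X_pow])
      have h3 := Submodule.mem_map_of_mem (f := (Ideal.Quotient.mkₐ R (Ideal.span ({1 - e} : Set S))).toLinearMap)
        (poly_deg_lt_mem_span (S := S) hdeg)
      rw [Submodule.map_span, ← Set.range_comp] at h3
      simpa [M, Function.comp_def] using h3
  have hjac : m ≤ Ideal.jacobson ⊥ := (IsLocalRing.jacobson_eq_maximalIdeal (⊥ : Ideal R) bot_ne_top).ge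
  have htop : (⊤ : Submodule R Q) ≤ M :=
    Submodule.le_of_le_smul_of_le_jacobson_bot hfin.fg_top hjac (hM.trans_eq (sup_comm _ _) |>.trans_eq (sup_comm _ _))
  obtain ⟨c, hc⟩ := (Submodule.mem_span_range_iff_exists_fun R).1
    (htop (Submodule.mem_top (x := Ideal.Quotient.mk (Ideal.span ({1 - e} : Set S)) τ ^ N)))
  let r : R[X] := ∑ i : Fin N, C (c i) * X ^ (i : ℕ)
  have hr : r.degree < N := degree_sum_fin_lt c
  refine ⟨X ^ N - r, e, monic_X_pow_sub hr, ?_, he, ?_, ?_⟩
  · rw [degree_sub_eq_left_of_degree_lt (by rwa [degree_X_pow]), degree_X_pow]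
  · rw [← Ideal.Quotient.eq_zero_iff_mem, map_sub, map_pow, map_sub, map_pow, sub_eq_zero, ← hc]
    simp only [r, map_sum, map_mul, map_pow, algebraMap_C, Algebra.smul_def]
    rfl
  · by_contra hne
    push Not at hne
    let T := S ⧸ Ideal.span ({e} : Set S)
    have hmT : m.map (algebraMap R T) ≠ ⊤ := by
      intro htopT
      have h1 : (1 : T) ∈ m.map (algebraMap R T) := htopT ▸ Submodule.mem_top
      rw [show algebraMap R T = (Ideal.Quotient.mk (Ideal.span ({e} : Set S))).comp (algebraMap R S) from rfl,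
        ← Ideal.map_map] at h1
      obtain ⟨a, ha, ha1⟩ := (Ideal.mem_map_iff_of_surjective _ Ideal.Quotient.mk_surjective).1 h1
      rw [← map_one (Ideal.Quotient.mk (Ideal.span ({e} : Set S))), eq_comm, Ideal.Quotient.eq,
        Ideal.mem_span_singleton] at ha1
      obtain ⟨s, hs⟩ := ha1
      refine hne s ?_
      rw [← hs, sub_sub_cancel]
      exact ha
    obtain ⟨p, hp, hle⟩ := Ideal.exists_le_maximal _ hmT
    haveI hlo : p.LiesOver m :=
      ⟨(IsLocalRing.maximalIdeal.isMaximal R).eq_of_le (Ideal.IsPrime.comap _).ne_top (Ideal.map_le_iff_le_comap.1 hle)⟩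
    have hmem : ∀ (p' : Ideal T) [p'.IsPrime], p'.comap (algebraMap R T) = m →
        ∀ a : S, Ideal.Quotient.mk _ a ∈ p' ↔ ∃ r' ∈ m, a - algebraMap R S r' ∈
          Ideal.span {τ} ⊔ Ideal.span {e} := by
      intro p' _ hp' a
      have hmp : ∀ x ∈ m.map (algebraMap R S), Ideal.Quotient.mk (Ideal.span ({e} : Set S)) x ∈ p' := by
        intro x hx
        exact (Ideal.map_le_iff_le_comap.2 (show m ≤ (p'.comap (Ideal.Quotient.mk (Ideal.span ({e} : Set S)))).comap
          (algebraMap R S) from hp'.ge)) hx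
      have htp : Ideal.Quotient.mk (Ideal.span ({e} : Set S)) τ ∈ p' := by
        refine Ideal.IsPrime.mem_of_pow_mem ‹_› N ?_
        rw [← map_pow]
        exact hmp _ ht
      have hsup : ∀ x ∈ Ideal.span {τ} ⊔ Ideal.span ({e} : Set S), Ideal.Quotient.mk _ x ∈ p' := by
        intro x hx
        refine (sup_le ?_ ?_ : Ideal.span {τ} ⊔ Ideal.span ({e} : Set S) ≤
          p'.comap (Ideal.Quotient.mk (Ideal.span ({e} : Set S)))) hx
        · rw [Ideal.span_singleton_le_iff_mem]; exact htp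
        · rw [Ideal.span_singleton_le_iff_mem, Ideal.mem_comap,
            Ideal.Quotient.eq_zero_iff_mem.2 (Ideal.mem_span_singleton_self e)]
          exact p'.zero_mem
      obtain ⟨r0, hr0⟩ := h a
      have h0 := hsup _ (Ideal.mem_sup_left hr0)
      rw [map_sub] at h0
      refine ⟨fun ha => ⟨r0, ?_, Ideal.mem_sup_left hr0⟩, ?_⟩
      · rw [← hp']
        show Ideal.Quotient.mk _ (algebraMap R S r0) ∈ p'
        have := p'.sub_mem ha h0
        rwa [sub_sub_cancel] at this
      · rintro ⟨r', hr', ha'⟩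
        have := p'.add_mem (hsup _ ha') (hmp _ (Ideal.mem_map_of_mem _ hr'))
        rwa [← map_add, sub_add_cancel] at this
    refine hq p hlo (Algebra.QuasiFiniteAt.of_isOpen_singleton_fiber ⟨p, hp.isPrime⟩ ?_)
    convert isOpen_univ
    refine Set.eq_univ_of_forall fun ⟨p', hp'⟩ => Subtype.ext (PrimeSpectrum.ext ?_)
    have hp'm : p'.asIdeal.comap (algebraMap R T) = m :=
      (congrArg PrimeSpectrum.asIdeal hp').trans hlo.over.symm
    ext x
    obtain ⟨a, rfl⟩ := Ideal.Quotient.mk_surjective x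
    rw [hmem p'.asIdeal hp'm, hmem p hlo.over.symm]

end Stage

variable {R B : Type u} [CommRing R] [CommRing B] [Algebra R B] [Algebra R[X] B] [IsScalarTower R R[X] B]

local notation "t" => algebraMap R[X] B Polynomial.X
local notation "𝔪" => IsLocalRing.maximalIdeal R

theorem span_X_map : (Ideal.span {(X : R[X])}).map (algebraMap R[X] B) = Ideal.span {t} := by
  rw [Ideal.map_span, Set.image_singleton]

variable (hB : Hens2.IsPairHenselization R[X] (Ideal.span {(X : R[X])}) B)
include hB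

theorem exists_poly_mod (n : ℕ) (b : B) : ∃ q : R[X], b - algebraMap R[X] B q ∈ Ideal.span {t ^ n} := by
  obtain ⟨q, hq⟩ := Hensel.pairHenselization_exists_sub_mem hB n b
  refine ⟨q, ?_⟩
  rw [Ideal.span_singleton_pow, Ideal.map_span, Set.image_singleton, map_pow] at hq
  exact hq

theorem exists_const (b : B) : ∃ r : R, b - algebraMap R B r ∈ Ideal.span {t} := by
  obtain ⟨q, hq⟩ := exists_poly_mod hB 1 b
  rw [pow_one] at hq
  refine ⟨q.coeff 0, ?_⟩
  have h2 : algebraMap R[X] B q - algebraMap R B (q.coeff 0) ∈ Ideal.span {t} := by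
    rw [← algebraMap_C (S := B) (q.coeff 0), ← map_sub]
    obtain ⟨c, hc⟩ := (X_dvd_iff (f := q - C (q.coeff 0))).2 (by simp)
    rw [hc, map_mul]
    exact Ideal.mul_mem_right _ _ (Ideal.mem_span_singleton_self _)
  simpa using Ideal.add_mem _ hq h2

theorem mem_jacobson : t ∈ Ideal.jacobson (⊥ : Ideal B) :=
  hB.1.jac (by rw [span_X_map]; exact Ideal.mem_span_singleton_self _)

theorem isUnit_of_const {b : B} {r : R} (hr : IsUnit r) (h : b - algebraMap R B r ∈ Ideal.span {t}) : IsUnit b := by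
  obtain ⟨c, hc⟩ := Ideal.mem_span_singleton.1 h
  have h1 := Ideal.mem_jacobson_bot.1 (mem_jacobson hB) (c * algebraMap R B (hr.unit⁻¹ : Rˣ))
  have h2 : b = algebraMap R B r * (t * (c * algebraMap R B (hr.unit⁻¹ : Rˣ)) + 1) := by
    rw [mul_add, mul_one]
    have : algebraMap R B r * algebraMap R B (hr.unit⁻¹ : Rˣ) = 1 := by
      rw [← map_mul, IsUnit.mul_val_inv, map_one]
    linear_combination hc - t * c * this
  rw [h2]
  exact (hr.map _).mul h1

variable [IsLocalRing R]

theorem isUnit_or_mem (b : B) : IsUnit b ∨ b ∈ Ideal.map (algebraMap R B) 𝔪 ⊔ Ideal.span {t} := by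
  obtain ⟨r, hr⟩ := exists_const hB b
  by_cases h : IsUnit r
  · exact Or.inl (isUnit_of_const hB h hr)
  · refine Or.inr ?_
    rw [← sub_add_cancel b (algebraMap R B r)]
    exact Ideal.add_mem _ (Ideal.mem_sup_right hr) (Ideal.mem_sup_left (Ideal.mem_map_of_mem _ h))

theorem coeff_mem {q : R[X]} {n : ℕ}
    (hq : algebraMap R[X] B q ∈ Ideal.map (algebraMap R B) 𝔪 ⊔ Ideal.span {t ^ n}) :
    ∀ i < n, q.coeff i ∈ 𝔪 := by
  let k := IsLocalRing.ResidueField R
  let J : Ideal k[X] := Ideal.span {X ^ n}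
  let f : R[X] →+* k[X] ⧸ J := (Ideal.Quotient.mk J).comp (mapRingHom (IsLocalRing.residue R))
  have hnil : ∀ x ∈ (Ideal.span {(X : R[X])}).map f, IsNilpotent x := by
    intro x hx
    rw [Ideal.map_span, Set.image_singleton, Ideal.mem_span_singleton] at hx
    obtain ⟨c, rfl⟩ := hx
    refine ⟨n, ?_⟩
    rw [mul_pow, ← map_pow, show f (X ^ n) = 0 from by
      simp only [f, RingHom.comp_apply, coe_mapRingHom, Polynomial.map_pow, map_X]
      exact Ideal.Quotient.eq_zero_iff_mem.2 (Ideal.mem_span_singleton_self _), zero_mul]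
  obtain ⟨g, hg, -⟩ := hB.2 _ _ f (Hensel.henselianRing_of_nilpotent hnil) le_rfl
  have hker : Ideal.map (algebraMap R B) 𝔪 ⊔ Ideal.span {t ^ n} ≤ RingHom.ker g := by
    refine sup_le (Ideal.map_le_iff_le_comap.2 fun r hr => ?_) ?_
    · show g (algebraMap R B r) = 0
      rw [← algebraMap_C (S := B), ← RingHom.comp_apply, hg]
      simp [f, show IsLocalRing.residue R r = 0 from (IsLocalRing.residue_eq_zero_iff r).2 hr]
    · rw [Ideal.span_singleton_le_iff_mem, RingHom.mem_ker, ← map_pow, ← RingHom.comp_apply, hg]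
      simp only [f, RingHom.comp_apply, coe_mapRingHom, Polynomial.map_pow, map_X]
      exact Ideal.Quotient.eq_zero_iff_mem.2 (Ideal.mem_span_singleton_self _)
  intro i hi
  have h1 : f q = 0 := by rw [← hg]; exact hker hq
  have h2 : X ^ n ∣ q.map (IsLocalRing.residue R) :=
    Ideal.mem_span_singleton.1 (Ideal.Quotient.eq_zero_iff_mem.1 h1)
  have h3 := Polynomial.X_pow_dvd_iff.1 h2 i hi
  rwa [coeff_map, IsLocalRing.residue_eq_zero_iff] at h3

theorem pow_notMem (n : ℕ) : t ^ n ∉ Ideal.map (algebraMap R B) 𝔪 ⊔ Ideal.span {t ^ (n + 1)} := fun h => by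
  have := coeff_mem hB (q := X ^ n) (n := n + 1) (by rwa [map_pow]) n (Nat.lt_succ_self n)
  simp at this

theorem exists_order {f : B} (hf : f ∉ Ideal.map (algebraMap R B) 𝔪) :
    ∃ (N : ℕ) (v : B), IsUnit v ∧ f - t ^ N * v ∈ Ideal.map (algebraMap R B) 𝔪 := by
  classical
  have hex : ∃ n : ℕ, f ∉ Ideal.map (algebraMap R B) 𝔪 ⊔ Ideal.span {t ^ n} := by
    by_contra hall
    push Not at hall
    obtain ⟨A', _, _, _, hbij, φ, s, hs⟩ := Hensel.exists_nhd_mem hB f
    letI : Algebra R A' := Algebra.compHom A' (C : R →+* R[X])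
    haveI : IsScalarTower R R[X] A' := IsScalarTower.of_algebraMap_eq fun _ => rfl
    let τ' := algebraMap R[X] A' X
    have hconst : ∀ a : A', ∃ r : R, a - algebraMap R A' r ∈ Ideal.span {τ'} := by
      intro a
      obtain ⟨q, hq⟩ := hbij.2 (Ideal.Quotient.mk _ a)
      obtain ⟨q, rfl⟩ := Ideal.Quotient.mk_surjective q
      rw [Ideal.quotientMap_mk, Ideal.Quotient.eq, Ideal.map_span, Set.image_singleton] at hq
      refine ⟨q.coeff 0, ?_⟩
      have h2 : algebraMap R[X] A' q - algebraMap R A' (q.coeff 0) ∈ Ideal.span {τ'} := by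
        rw [← algebraMap_C (S := A') (q.coeff 0), ← map_sub]
        obtain ⟨c, hc⟩ := (X_dvd_iff (f := q - C (q.coeff 0))).2 (by simp)
        rw [hc, map_mul]
        exact Ideal.mul_mem_right _ _ (Ideal.mem_span_singleton_self _)
      have := Ideal.sub_mem _ h2 hq
      rwa [show algebraMap R[X] A' q - algebraMap R A' (q.coeff 0) - (algebraMap R[X] A' q - a) =
        a - algebraMap R A' (q.coeff 0) by ring] at this
    let mA := Ideal.map (algebraMap R A') 𝔪
    haveI : Algebra.FiniteType R A' := Algebra.FiniteType.trans (inferInstance : Algebra.FiniteType R R[X]) inferInstance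
    haveI : IsNoetherianRing (A' ⧸ mA) :=
      haveI : Algebra.FiniteType (R ⧸ 𝔪) (A' ⧸ mA) := .of_restrictScalars_finiteType R _ _
      letI := Ideal.Quotient.field 𝔪
      Algebra.FiniteType.isNoetherianRing (R ⧸ 𝔪) _
    have hmem : Ideal.Quotient.mk mA s ∈ (⨅ n : ℕ, Ideal.span {Ideal.Quotient.mk mA τ'} ^ n • ⊤ :
        Submodule (A' ⧸ mA) (A' ⧸ mA)) := by
      rw [Submodule.mem_iInf]
      intro n
      obtain ⟨q, hq⟩ := exists_poly hconst n s
      have hqB : algebraMap R[X] B q ∈ Ideal.map (algebraMap R B) 𝔪 ⊔ Ideal.span {t ^ n} := by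
        have h1 := Ideal.mem_map_of_mem φ hq
        rw [Ideal.map_span, Set.image_singleton, map_sub, hs, map_pow, AlgHom.commutes, AlgHom.commutes] at h1
        have := Ideal.sub_mem _ (hall n) (Ideal.mem_sup_right h1)
        rwa [sub_sub_cancel] at this
      have h2 := Ideal.add_mem _ (Ideal.mem_sup_right hq : _ ∈ mA ⊔ Ideal.span {τ' ^ n}) (poly_mem (S := A') (coeff_mem hB hqB))
      rw [sub_add_cancel] at h2
      have h3 := Ideal.mem_map_of_mem (Ideal.Quotient.mk mA) h2
      rw [Ideal.map_sup, Ideal.map_quotient_self, bot_sup_eq, Ideal.map_span, Set.image_singleton, map_pow,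
        ← Ideal.span_singleton_pow] at h3
      rwa [smul_eq_mul, Ideal.mul_top]
    obtain ⟨⟨r, hr⟩, hrs⟩ := (Ideal.mem_iInf_smul_pow_eq_bot_iff _ _).1 hmem
    obtain ⟨c, rfl⟩ := Ideal.mem_span_singleton.1 hr
    obtain ⟨c, rfl⟩ := Ideal.Quotient.mk_surjective c
    simp only [smul_eq_mul, ← map_mul, Ideal.Quotient.eq] at hrs
    have h4 : φ (τ' * c * s - s) ∈ Ideal.map (algebraMap R B) 𝔪 := by
      have h5 : φ (τ' * c * s - s) ∈ Ideal.map φ.toRingHom (Ideal.map (algebraMap R A') 𝔪) :=
        Ideal.mem_map_of_mem φ.toRingHom hrs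
      rwa [Ideal.map_map, show φ.toRingHom.comp (algebraMap R A') = algebraMap R B from RingHom.ext fun r => by
        show φ (algebraMap R[X] A' (C r)) = _
        rw [AlgHom.commutes, algebraMap_C]] at h5
    rw [map_sub, map_mul, map_mul, hs, show φ τ' = t from φ.commutes X,
      show t * φ c * f - f = (t * -(φ c) + 1) * (-f) by ring,
      Ideal.unit_mul_mem_iff_mem _ (Ideal.mem_jacobson_bot.1 (mem_jacobson hB) _), neg_mem_iff] at h4
    exact hf h4
  have h0 : Nat.find hex ≠ 0 := fun h => by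
    have := Nat.find_spec hex
    rw [h, pow_zero, Ideal.span_singleton_one, sup_top_eq] at this
    exact this Submodule.mem_top
  obtain ⟨N, hN⟩ := Nat.exists_eq_succ_of_ne_zero h0
  have hfN : f ∈ Ideal.map (algebraMap R B) 𝔪 ⊔ Ideal.span {t ^ N} :=
    not_not.1 (Nat.find_min hex (by omega))
  obtain ⟨y, hy, z, hz, rfl⟩ := Submodule.mem_sup.1 hfN
  obtain ⟨v, rfl⟩ := Ideal.mem_span_singleton.1 hz
  refine ⟨N, v, (isUnit_or_mem hB v).resolve_right fun hv => ?_, by simpa using hy⟩
  have := Nat.find_spec hex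
  rw [hN] at this
  refine this ?_
  obtain ⟨a, ha, b, hb, rfl⟩ := Submodule.mem_sup.1 hv
  obtain ⟨c, rfl⟩ := Ideal.mem_span_singleton.1 hb
  rw [mul_add, ← add_assoc]
  refine Ideal.add_mem _ (Ideal.mem_sup_left (Ideal.add_mem _ hy (Ideal.mul_mem_left _ _ ha))) ?_
  exact Ideal.mem_sup_right (Ideal.mem_span_singleton.2 ⟨c, by rw [Nat.succ_eq_add_one, pow_succ]; ring⟩)

end Groth.Agent.WPrep
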